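import Groth.Prelude.Def_ThetaS
import Mathlib

/-!
# Equivariant families over the affine line
-/

set_option autoImplicit false
set_option linter.all false
set_option backward.isDefEq.respectTransparency false
set_option synthInstance.maxHeartbeats 400000

universe u

open CategoryTheory MonoidalCategory CartesianMonoidalCategory MonObj GrpObj AlgebraicGeometry Opposite Limits
open scoped TensorProduct Polynomial

noncomputable section

namespace GrothLib.GmOrbit2

variable {R : Type u} [CommRing R]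

local instance braidedAlgSpec' (R : Type u) [CommRing R] : (algSpec (CommRingCat.of R)).Braided :=
  braidedAlgSpec

theorem ext_spec {X : Over (Spec (CommRingCat.of R))} [IsSeparated X.hom] {C C' : CommRingCat.{u}}
    (ψ : C ⟶ C') (hψ : Function.Injective ψ) (f g : Spec C ⟶ X.left) (hS : f ≫ X.hom = g ≫ X.hom)
    (h : Spec.map ψ ≫ f = Spec.map ψ ≫ g) : f = g := by
  let l : Spec C ⟶ pullback X.hom X.hom := pullback.lift f g hS
  let e := pullback.fst l (pullback.diagonal X.hom)
  let k : Spec C' ⟶ pullback l (pullback.diagonal X.hom) :=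
    pullback.lift (Spec.map ψ) (Spec.map ψ ≫ f) (by
      apply pullback.hom_ext
      · simp [l]
      · simp [l, h])
  have hk : k ≫ e = Spec.map ψ := pullback.lift_fst _ _ _
  have hker : e.ker = ⊥ := by
    refine le_bot_iff.1 ((k.le_ker_comp e).trans ?_)
    rw [hk]
    refine le_of_eq (Scheme.IdealSheafData.ext_of_isAffine ?_)
    rw [Scheme.Hom.ker_apply _ ⟨⊤, isAffineOpen_top _⟩, Scheme.IdealSheafData.ideal_bot, Pi.bot_apply,
      ← RingHom.injective_iff_ker_eq_bot]
    have := Scheme.ΓSpecIso_naturality ψ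
    rw [← Iso.eq_comp_inv] at this
    change Function.Injective (Spec.map ψ).appTop.hom
    rw [this]
    exact ((ConcreteCategory.bijective_of_isIso (Scheme.ΓSpecIso C').inv).1.comp hψ).comp
      (ConcreteCategory.bijective_of_isIso (Scheme.ΓSpecIso C).hom).1
  haveI : IsIso e := IsClosedImmersion.isIso_iff_ker_eq_bot.2 hker
  rw [← cancel_epi e]
  have h1 := congrArg (fun m => m ≫ pullback.fst _ _) (pullback.condition (f := l) (g := pullback.diagonal X.hom))
  have h2 := congrArg (fun m => m ≫ pullback.snd _ _) (pullback.condition (f := l) (g := pullback.diagonal X.hom))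
  simp only [Category.assoc, l, pullback.lift_fst, pullback.lift_snd, pullback.diagonal_fst,
    pullback.diagonal_snd, Category.comp_id] at h1 h2
  exact h1.trans h2.symm

/-- A point map injective after every base change is epi for maps to separated objects, after any base change. -/
theorem ext_whiskerRight {B B' : Type u} [CommRing B] [CommRing B'] [Algebra R B] [Algebra R B'] (φ : B →ₐ[R] B')
    (hφ : ∀ (A : Type u) [CommRing A] [Algebra R A],
      Function.Injective (Algebra.TensorProduct.map φ (AlgHom.id R A)))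
    {X T : Over (Spec (CommRingCat.of R))} [IsSeparated X.hom] (u v : CoactBr.sp R B ⊗ T ⟶ X)
    (h : CoactBr.pt φ ▷ T ≫ u = CoactBr.pt φ ▷ T ≫ v) : u = v := by
  refine Over.OverMorphism.ext (Scheme.hom_ext_of_forall _ _ fun z => ?_)
  let snd' : (CoactBr.sp R B ⊗ T).left ⟶ T.left := (snd (CoactBr.sp R B) T).left
  obtain ⟨V, hV, hzV, -⟩ := exists_isAffineOpen_mem_and_subset (X := T.left) (x := snd' z) (U := ⊤) trivial
  let ρ := Spec.preimage (hV.fromSpec ≫ T.hom)
  letI : Algebra R Γ(T.left, V) := ρ.hom.toAlgebra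
  let A : Type u := Γ(T.left, V)
  let t : CoactBr.sp R A ⟶ T := Over.homMk hV.fromSpec (Spec.map_preimage (hV.fromSpec ≫ T.hom)).symm
  let w : CoactBr.sp R B ⊗ CoactBr.sp R A ⟶ CoactBr.sp R B ⊗ T := CoactBr.sp R B ◁ t
  haveI : IsOpenImmersion t.left := inferInstanceAs (IsOpenImmersion hV.fromSpec)
  haveI : IsOpenImmersion w.left := by
    have : IsPullback w.left (snd (CoactBr.sp R B) (CoactBr.sp R A)).left snd' t.left := by
      refine IsPullback.of_right (h₁₂ := (fst (CoactBr.sp R B) T).left) ?_ ?_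
        (IsPullback.of_hasPullback (CoactBr.sp R B).hom T.hom).flip.flip
      · have e1 : w.left ≫ (fst (CoactBr.sp R B) T).left = (fst (CoactBr.sp R B) (CoactBr.sp R A)).left := by
          rw [← Over.comp_left, whiskerLeft_fst]
        rw [e1, Over.w t]
        exact IsPullback.of_hasPullback (CoactBr.sp R B).hom (CoactBr.sp R A).hom
      · rw [← Over.comp_left, whiskerLeft_snd, Over.comp_left]
    exact MorphismProperty.of_isPullback this.flip ‹IsOpenImmersion t.left›
  have hz : z ∈ w.left.opensRange := by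
    have hsq : IsPullback w.left (snd (CoactBr.sp R B) (CoactBr.sp R A)).left snd' t.left := by
      refine IsPullback.of_right (h₁₂ := (fst (CoactBr.sp R B) T).left) ?_ ?_
        (IsPullback.of_hasPullback (CoactBr.sp R B).hom T.hom)
      · have e1 : w.left ≫ (fst (CoactBr.sp R B) T).left = (fst (CoactBr.sp R B) (CoactBr.sp R A)).left := by
          rw [← Over.comp_left, whiskerLeft_fst]
        rw [e1, Over.w t]
        exact IsPullback.of_hasPullback (CoactBr.sp R B).hom (CoactBr.sp R A).hom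
      · rw [← Over.comp_left, whiskerLeft_snd, Over.comp_left]
    obtain ⟨p, hp⟩ : snd' z ∈ Set.range hV.fromSpec := by rw [hV.range_fromSpec]; exact hzV
    obtain ⟨q, hq, -⟩ := Scheme.exists_preimage_of_isPullback hsq z p hp.symm
    exact ⟨q, hq⟩
  refine ⟨w.left.opensRange, hz, ?_⟩
  rw [← cancel_epi w.left.isoOpensRange.hom, Scheme.Hom.isoOpensRange_hom_ι_assoc,
    Scheme.Hom.isoOpensRange_hom_ι_assoc, ← Over.comp_left, ← Over.comp_left]
  congr 1
  let μ' := Functor.LaxMonoidal.μ (algSpec (CommRingCat.of R)) (op (.of R B)) (op (.of R A))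
  let μ'' := Functor.LaxMonoidal.μ (algSpec (CommRingCat.of R)) (op (.of R B')) (op (.of R A))
  have hnat : CoactBr.pt φ ▷ CoactBr.sp R A ≫ μ' =
      μ'' ≫ CoactBr.pt (Algebra.TensorProduct.map φ (AlgHom.id R A)) :=
    Functor.LaxMonoidal.μ_natural_left (algSpec (CommRingCat.of R)) (CommAlgCat.ofHom φ).op (op (CommAlgCat.of R A))
  have hex : CoactBr.pt φ ▷ CoactBr.sp R A ≫ w = (CoactBr.sp R B' ◁ t) ≫ CoactBr.pt φ ▷ T :=
    (whisker_exchange _ _).symm
  haveI : IsIso μ' := inferInstanceAs (IsIso (Functor.LaxMonoidal.μ (algSpec (CommRingCat.of R)) _ _))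
  haveI : IsIso μ'' := inferInstanceAs (IsIso (Functor.LaxMonoidal.μ (algSpec (CommRingCat.of R)) _ _))
  have key : CoactBr.pt (Algebra.TensorProduct.map φ (AlgHom.id R A)) ≫ inv μ' ≫ w ≫ u =
      CoactBr.pt (Algebra.TensorProduct.map φ (AlgHom.id R A)) ≫ inv μ' ≫ w ≫ v := by
    rw [← cancel_epi μ'', ← reassoc_of% hnat, IsIso.hom_inv_id_assoc, reassoc_of% hnat.symm,
      IsIso.hom_inv_id_assoc, reassoc_of% hex, reassoc_of% hex, h]
  rw [← cancel_epi (inv μ')]
  apply Over.OverMorphism.ext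
  refine ext_spec (X := X) (CommRingCat.ofHom (Algebra.TensorProduct.map φ (AlgHom.id R A)).toRingHom) (hφ A)
    (inv μ' ≫ w ≫ u).left (inv μ' ≫ w ≫ v).left ((Over.w _).trans (Over.w _).symm) ?_
  exact congrArg CommaMorphism.left key

variable (R)

/-- The coordinate inclusion of the multiplicative group in the line. -/
abbrev jMap : ThetaS.Gm R ⟶ ThetaS.Line R := CoactBr.pt (ThetaS.linePt (ThetaS.zPow R 1))

theorem injective_map_linePt (A : Type u) [CommRing A] [Algebra R A] :
    Function.Injective (Algebra.TensorProduct.map (ThetaS.linePt (ThetaS.zPow R 1) : R[X] →ₐ[R] ThetaS.Lau R)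
      (AlgHom.id R A)) := by
  have e : ∀ n : ℕ, (ThetaS.zPow R 1) ^ n = ThetaS.zPow R n := by
    intro n
    induction n with
    | zero => simp
    | succ n ih => rw [pow_succ, ih, ThetaS.zPow_mul]; norm_cast
  -- a linear retraction
  let r : ThetaS.Lau R →ₗ[R] R[X] :=
    LinearMap.comp
      (Finsupp.linearCombination R (fun m : Multiplicative ℤ =>
        if 0 ≤ Multiplicative.toAdd m then (Polynomial.X : R[X]) ^ (Multiplicative.toAdd m).toNat else 0))
      (MonoidAlgebra.coeffLinearEquiv R).toLinearMap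
  have hr : r.comp (ThetaS.linePt (ThetaS.zPow R 1) : R[X] →ₐ[R] ThetaS.Lau R).toLinearMap = LinearMap.id := by
    refine Polynomial.lhom_ext' fun n => LinearMap.ext_ring ?_
    simp [r, e, Polynomial.monomial_one_one_eq_X, ← Polynomial.X_pow_eq_monomial]
  refine Function.LeftInverse.injective (g := TensorProduct.map r (LinearMap.id : A →ₗ[R] A)) fun x => ?_
  induction x with
  | zero => simp
  | add x y hx hy => rw [map_add, map_add, hx, hy]
  | tmul p a =>
    rw [Algebra.TensorProduct.map_tmul, AlgHom.id_apply, TensorProduct.map_tmul, LinearMap.id_apply]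
    exact congrArg (fun q => q ⊗ₜ[R] a) (LinearMap.congr_fun hr p)

theorem whiskerLeft_j_lineAction :
    (ThetaS.Gm R ◁ jMap R) ≫ (ThetaS.lineAction R).act = μ[ThetaS.Gm R] ≫ jMap R := by
  let iL : ThetaS.Lau R →ₐ[R] ThetaS.Lau R ⊗[R] ThetaS.Lau R := Algebra.TensorProduct.includeLeft
  let iR : ThetaS.Lau R →ₐ[R] ThetaS.Lau R ⊗[R] ThetaS.Lau R := Algebra.TensorProduct.includeRight
  let g : CoactBr.sp R (ThetaS.Lau R ⊗[R] ThetaS.Lau R) ⟶ ThetaS.Gm R ⊗ ThetaS.Gm R :=
    lift (CoactBr.pt iL) (CoactBr.pt iR)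
  haveI : IsIso g := by
    have h1 := CoactBr.lift_pt_pt iL iR
    have h2 : Algebra.TensorProduct.lift iL iR (fun _ _ => .all _ _) = AlgHom.id R _ :=
      Algebra.TensorProduct.ext' fun a b => by simp [iL, iR]
    rw [h2, CoactBr.pt_id] at h1
    haveI : IsIso (g ≫ Functor.LaxMonoidal.μ (algSpec (CommRingCat.of R)) (op (CommAlgCat.of R (ThetaS.Lau R)))
        (op (CommAlgCat.of R (ThetaS.Lau R)))) := by
      refine (congrArg IsIso h1).mpr ?_; exact IsIso.id _
    exact IsIso.of_isIso_comp_right g (Functor.LaxMonoidal.μ (algSpec (CommRingCat.of R)) (op (CommAlgCat.of R (ThetaS.Lau R)))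
        (op (CommAlgCat.of R (ThetaS.Lau R))))
  have h2 : g ≫ (ThetaS.Gm R ◁ jMap R) =
      lift (CoactBr.pt iL) (CoactBr.pt (iR.comp (ThetaS.linePt (ThetaS.zPow R 1)))) := by
    rw [CoactBr.pt_comp]
    exact lift_whiskerLeft _ _ _
  have h3 : iR.comp (ThetaS.linePt (ThetaS.zPow R 1)) = ThetaS.linePt (iR (ThetaS.zPow R 1)) :=
    Polynomial.algHom_ext (by simp)
  rw [← cancel_epi g, reassoc_of% h2, h3, ThetaS.lineAction_pt, ← Category.assoc g μ[ThetaS.Gm R],
    show g ≫ μ[ThetaS.Gm R] = CoactBr.pt iL * CoactBr.pt iR from (Hom.mul_def _ _).symm]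
  erw [CoactBr.pt_mul_pt, ← CoactBr.pt_comp]
  congr 1
  refine Polynomial.algHom_ext ?_
  simp [iL, iR, Bialgebra.comulAlgHom_apply]

variable {R}

theorem unit_equivariant (T : Over (Spec (CommRingCat.of R))) :
    (ThetaS.Gm R ◁ lift ((1 : T ⟶ ThetaS.Gm R) ≫ jMap R) (𝟙 T)) ≫
      (α_ (ThetaS.Gm R) (ThetaS.Line R) T).inv ≫ ((ThetaS.lineAction R).act ▷ T) = jMap R ▷ T := by
  have e : lift ((1 : T ⟶ ThetaS.Gm R) ≫ jMap R) (𝟙 T) = lift (1 : T ⟶ ThetaS.Gm R) (𝟙 T) ≫ jMap R ▷ T := by
    rw [lift_whiskerRight]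
  rw [e, MonoidalCategory.whiskerLeft_comp, Category.assoc, associator_inv_naturality_middle_assoc,
    ← MonoidalCategory.comp_whiskerRight, whiskerLeft_j_lineAction, MonoidalCategory.comp_whiskerRight,
    ← Category.assoc, ← Category.assoc]
  have : ((ThetaS.Gm R ◁ lift (1 : T ⟶ ThetaS.Gm R) (𝟙 T)) ≫ (α_ (ThetaS.Gm R) (ThetaS.Gm R) T).inv) ≫
      μ[ThetaS.Gm R] ▷ T = 𝟙 _ := by
    apply CartesianMonoidalCategory.hom_ext
    · simp only [Category.assoc, whiskerRight_fst, Category.id_comp]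
      have h' : (ThetaS.Gm R ◁ lift (1 : T ⟶ ThetaS.Gm R) (𝟙 T)) ≫ (α_ (ThetaS.Gm R) (ThetaS.Gm R) T).inv ≫
          fst (ThetaS.Gm R ⊗ ThetaS.Gm R) T =
          lift (fst (ThetaS.Gm R) T) (snd (ThetaS.Gm R) T ≫ 1) := by
        apply CartesianMonoidalCategory.hom_ext <;> simp
      rw [reassoc_of% h', ← Hom.mul_def, MonObj.comp_one, _root_.mul_one]
    · simp
  rw [this, Category.id_comp]

theorem orbit_extension_equivariant {X T : Over (Spec (CommRingCat.of R))} [IsSeparated X.hom]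
    (a : AlgGrp.Action (ThetaS.Gm R) X) (x : T ⟶ X) (u : ThetaS.Line R ⊗ T ⟶ X)
    (h : jMap R ▷ T ≫ u = (ThetaS.Gm R ◁ x) ≫ a.act) :
    (α_ (ThetaS.Gm R) (ThetaS.Line R) T).inv ≫ ((ThetaS.lineAction R).act ▷ T) ≫ u =
      (ThetaS.Gm R ◁ u) ≫ a.act := by
  let e : ThetaS.Line R ⊗ (ThetaS.Gm R ⊗ T) ⟶ ThetaS.Gm R ⊗ (ThetaS.Line R ⊗ T) :=
    lift (snd _ _ ≫ fst _ _) (lift (fst _ _) (snd _ _ ≫ snd _ _))
  let e' : ThetaS.Gm R ⊗ (ThetaS.Line R ⊗ T) ⟶ ThetaS.Line R ⊗ (ThetaS.Gm R ⊗ T) :=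
    lift (snd _ _ ≫ fst _ _) (lift (fst _ _) (snd _ _ ≫ snd _ _))
  have hee : e' ≫ e = 𝟙 _ := by
    apply CartesianMonoidalCategory.hom_ext
    · simp [e, e']
    · apply CartesianMonoidalCategory.hom_ext <;> simp [e, e']
  haveI : Epi e := epi_of_epi_fac hee
  let c : ThetaS.Gm R ⊗ (ThetaS.Gm R ⊗ T) ⟶ ThetaS.Gm R ⊗ (ThetaS.Gm R ⊗ T) :=
    lift (snd _ _ ≫ fst _ _) (lift (fst _ _) (snd _ _ ≫ snd _ _))
  have hc : jMap R ▷ (ThetaS.Gm R ⊗ T) ≫ e = c ≫ (ThetaS.Gm R ◁ (jMap R ▷ T)) := by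
    apply CartesianMonoidalCategory.hom_ext
    · simp [e, c]
    · apply CartesianMonoidalCategory.hom_ext <;> simp [e, c]
  rw [← cancel_epi e]
  refine ext_whiskerRight _ (injective_map_linePt R) _ _ ?_
  rw [reassoc_of% hc, reassoc_of% hc]
  congr 1
  rw [associator_inv_naturality_middle_assoc, ← MonoidalCategory.comp_whiskerRight_assoc,
    whiskerLeft_j_lineAction, MonoidalCategory.comp_whiskerRight_assoc, h,
    ← MonoidalCategory.whiskerLeft_comp_assoc, h, MonoidalCategory.whiskerLeft_comp_assoc]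
  rw [← whisker_exchange_assoc, a.mul_act]
  simp [associator_inv_naturality_right_assoc]

end GrothLib.GmOrbit2
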